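import Cfsg.Agent.Lib.Class49.LinOrder
import Mathlib

/-!
# Abelian subgroups of small index in solvable linear groups over large fields

An irreducible solvable group on an `n`-dimensional space over a field of `Q ≥ 4096` elements has an
abelian subgroup whose index `i` satisfies `(3 i) ^ 3 ≤ Q ^ n`.
-/

set_option autoImplicit false
set_option linter.style.haveILetI false

namespace CfsgLib.ClassLog81

open Subgroup CfsgLib.ClassBound CfsgLib.Class49

theorem sq_le_two_pow : ∀ m : ℕ, 4 ≤ m → m * m ≤ 2 ^ m := by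
  intro m hm
  induction m, hm using Nat.le_induction with
  | base => norm_num
  | succ m hm ih =>
    rw [pow_succ]
    nlinarith

theorem piece_cube_le {m : ℕ} (hm : 1 ≤ m) : (3 * (m * m * phi m)) ^ 3 ≤ 4096 ^ m := by
  by_cases h8 : 8 ≤ m
  · rw [phi_of_ge h8]
    have h1 : 3 * (m * m * (m ^ 6 / 3)) ≤ (m * m) ^ 4 := by
      calc 3 * (m * m * (m ^ 6 / 3)) = m * m * (3 * (m ^ 6 / 3)) := by ring
        _ ≤ m * m * m ^ 6 := Nat.mul_le_mul_left _ (Nat.mul_div_le _ _)
        _ = (m * m) ^ 4 := by ring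
    calc (3 * (m * m * (m ^ 6 / 3))) ^ 3 ≤ ((m * m) ^ 4) ^ 3 := Nat.pow_le_pow_left h1 3
      _ = (m * m) ^ 12 := by rw [← pow_mul]
      _ ≤ (2 ^ m) ^ 12 := Nat.pow_le_pow_left (sq_le_two_pow m (by omega)) 12
      _ = 4096 ^ m := by rw [← pow_mul, mul_comm, pow_mul]; norm_num
  · interval_cases m <;> norm_num [phi]

theorem cube_mul_le_pow {e y : ℕ} (he : 1 ≤ e) (hy : 8 ≤ y) : e ^ 3 * y ≤ y ^ e := by
  induction e, he using Nat.le_induction with
  | base => simp
  | succ e he ih =>
    calc (e + 1) ^ 3 * y ≤ (8 * e ^ 3) * y := Nat.mul_le_mul_right _ (by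
          calc (e + 1) ^ 3 ≤ (2 * e) ^ 3 := Nat.pow_le_pow_left (by omega) 3
            _ = 8 * e ^ 3 := by ring)
      _ = 8 * (e ^ 3 * y) := by ring
      _ ≤ y * y ^ e := Nat.mul_le_mul hy ih
      _ = y ^ (e + 1) := by ring

/-- The index bound for irreducible solvable linear groups of dimension `n`. -/
def LinAb (n : ℕ) : Prop :=
  ∀ (X : Type) [Group X] [Finite X] (k : Type) [Field k] [Finite k] (V : Type) [AddCommGroup V]
    [Module k V] [FiniteDimensional k V] (ρ : X →* Module.End k V),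
    Group.IsSolvable X → Function.Injective ρ → Irred ρ → 4096 ≤ Nat.card k →
      Module.finrank k V = n →
      ∃ A : Subgroup X, (∀ a ∈ A, ∀ b ∈ A, Commute a b) ∧ (3 * A.index) ^ 3 ≤ Nat.card k ^ n

theorem linAb : ∀ n, LinAb n := by
  intro n
  induction n using Nat.strong_induction_on with
  | _ n ih =>
  intro X _ _ k _ _ V _ _ _ ρ hsol hinj hirr hQ hn
  classical
  haveI := hirr.1
  haveI := hsol
  rcases blocks_or_fieldData ρ hsol hinj hirr with ⟨⟨B⟩⟩ | ⟨⟨D⟩⟩
  · have ht2 := B.two_le
    have hi : Fin B.t := ⟨0, by omega⟩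
    have hd := B.finrank_pos hi
    have hfr := B.finrank_eq hirr hi
    have hlt : Module.finrank k (B.W hi) < n := by
      rw [← hn, hfr]
      exact lt_mul_left hd B.two_le
    have hIH := fun i => ih _ hlt (B.stab i ⧸ (B.res i).ker) k (B.W i) (quotRep (B.res i))
      inferInstance (quotRep_injective _) (B.irred_res hirr i).quotRep hQ (B.finrank_W_eq hirr i hi)
    choose A hAc hAi using hIH
    let j : ∀ i, B.σ.ker →* (B.stab i ⧸ (B.res i).ker) := fun i =>
      (QuotientGroup.mk' (B.res i).ker).comp (Subgroup.inclusion (B.ker_le_stab i))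
    let A' : Subgroup B.σ.ker := ⨅ i, (A i).comap (j i)
    refine ⟨A'.map B.σ.ker.subtype, ?_, ?_⟩
    · rintro _ ⟨a, ha, rfl⟩ _ ⟨b, hb, rfl⟩
      have hab : a * b * a⁻¹ * b⁻¹ = 1 := B.jointly_injective hinj _ fun i => by
        have h1 : j i (a * b * a⁻¹ * b⁻¹) = 1 := by
          have hc := hAc i _ ((Subgroup.mem_iInf.1 ha) i) _ ((Subgroup.mem_iInf.1 hb) i)
          rw [map_mul, map_mul, map_mul, map_inv, map_inv, hc.eq]
          group
        exact MonoidHom.mem_ker.1 ((QuotientGroup.eq_one_iff _).1 h1)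
      have hab' : a * b = b * a := by
        calc a * b = a * b * a⁻¹ * b⁻¹ * (b * a) := by group
          _ = b * a := by rw [hab, one_mul]
      exact congrArg Subtype.val hab'
    · rw [Subgroup.index_map_subtype]
      have h1 : A'.index ≤ ∏ i, (A i).index := by
        refine (Subgroup.index_iInf_le _).trans (Finset.prod_le_prod' fun i _ => ?_)
        rw [Subgroup.index_comap]
        refine Nat.le_trans (Subgroup.relIndex_le_of_le_right le_top ?_) (relIndex_top_right _).le
        rw [relIndex_top_right]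
        exact index_ne_zero_of_finite
      have h2 : B.σ.ker.index ≤ 3 ^ (B.t - 1) := by
        rw [Subgroup.index_eq_card]
        exact (permOrd B.t).of_quot hsol B.σ (Fintype.card_fin _)
      have ht : B.t - 1 + 1 = B.t := by omega
      calc (3 * (A'.index * B.σ.ker.index)) ^ 3
          ≤ (3 * ((∏ i, (A i).index) * 3 ^ (B.t - 1))) ^ 3 :=
            Nat.pow_le_pow_left (Nat.mul_le_mul_left 3 (Nat.mul_le_mul h1 h2)) 3
        _ = (∏ i, 3 * (A i).index) ^ 3 := by
            rw [Finset.prod_mul_distrib, Finset.prod_const, Finset.card_univ, Fintype.card_fin]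
            congr 1
            have h3 : 3 ^ B.t = 3 ^ (B.t - 1) * 3 := by rw [← pow_succ, ht]
            rw [h3]
            ring
        _ = ∏ i, (3 * (A i).index) ^ 3 := (Finset.prod_pow _ _ _).symm
        _ ≤ ∏ _i : Fin B.t, Nat.card k ^ Module.finrank k (B.W hi) :=
            Finset.prod_le_prod' fun i _ => hAi i
        _ = Nat.card k ^ n := by
            rw [Finset.prod_const, Finset.card_univ, Fintype.card_fin, ← pow_mul, mul_comm,
              ← hfr, hn]
  · refine ⟨zC D.C, fun a ha b hb => (commute_zC hb ha.1), ?_⟩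
    have hfin := D.finrank
    rw [hn] at hfin
    have hidx := D.index_zC_le (piecesOrdUpTo D.m)
    have hy : 8 ≤ Nat.card k ^ D.r :=
      le_trans (by rw [pow_one]; omega : 8 ≤ Nat.card k ^ 1) (Nat.pow_le_pow_right (by omega)
        (D.one_le_m.trans D.m_le))
    calc (3 * (zC D.C).index) ^ 3 ≤ (3 * (D.e * (D.m * D.m) * phi D.m)) ^ 3 :=
          Nat.pow_le_pow_left (Nat.mul_le_mul_left 3 hidx) 3
      _ = D.e ^ 3 * (3 * (D.m * D.m * phi D.m)) ^ 3 := by ring
      _ ≤ D.e ^ 3 * 4096 ^ D.m := Nat.mul_le_mul_left _ (piece_cube_le D.one_le_m)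
      _ ≤ D.e ^ 3 * Nat.card k ^ D.r := Nat.mul_le_mul_left _
          ((Nat.pow_le_pow_left hQ _).trans (Nat.pow_le_pow_right (by omega) D.m_le))
      _ ≤ (Nat.card k ^ D.r) ^ D.e := cube_mul_le_pow D.one_le_e hy
      _ = Nat.card k ^ n := by rw [← pow_mul, hfin, mul_comm]

end CfsgLib.ClassLog81
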