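import Cfsg.Agent.Lib.ClassLog81.Split
import Cfsg.Agent.Lib.Class49.Orbits
import Cfsg.Agent.Lib.Class49.ClassLower
import Mathlib

/-!
# Classes plus orbits of an irreducible group with a normal subgroup of prime order

For such a group `p ≤ 3 ⌊log₂ p⌋ (k + r)`, with `k` classes and `r` orbits on nonzero vectors.
-/

set_option autoImplicit false
set_option linter.style.haveILetI false

namespace CfsgLib.ClassLog81

open Subgroup CfsgLib.ClassBound CfsgLib.Class49

theorem pow_bound_one {l d : ℕ} (hl : 1 ≤ l) (hd : 3 * l + 1 ≤ d) :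
    2 ^ (2 * l + 2) * d ^ 2 ≤ 18 * l ^ 2 * 2 ^ d := by
  induction d, hd using Nat.le_induction with
  | base =>
    have h1 : (3 * l + 1) ^ 2 ≤ 16 * l ^ 2 :=
      (Nat.pow_le_pow_left (by omega : 3 * l + 1 ≤ 4 * l) 2).trans_eq (by ring)
    have h2 : 2 ≤ 2 ^ l := Nat.le_self_pow (by omega) 2
    calc 2 ^ (2 * l + 2) * (3 * l + 1) ^ 2 ≤ 2 ^ (2 * l + 2) * (16 * l ^ 2) := Nat.mul_le_mul_left _ h1
      _ = 18 * l ^ 2 * ((2 ^ l) ^ 2 * 2) * 2 - 8 * l ^ 2 * (2 ^ l) ^ 2 := by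
          rw [pow_add, mul_comm 2 l, pow_mul]
          have e : 18 * l ^ 2 * ((2 ^ l) ^ 2 * 2) * 2 =
              (2 ^ l) ^ 2 * 2 ^ 2 * (16 * l ^ 2) + 8 * l ^ 2 * (2 ^ l) ^ 2 := by ring
          omega
      _ ≤ 18 * l ^ 2 * ((2 ^ l) ^ 2 * 2) * 2 := Nat.sub_le _ _
      _ ≤ 18 * l ^ 2 * ((2 ^ l) ^ 2 * 2) * 2 ^ l := Nat.mul_le_mul_left _ h2
      _ = 18 * l ^ 2 * 2 ^ (3 * l + 1) := by rw [pow_succ 2 (3 * l), mul_comm 3 l, pow_mul]; ring
  | succ d hd ih =>
    have h : (d + 1) ^ 2 ≤ 2 * d ^ 2 := by nlinarith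
    calc 2 ^ (2 * l + 2) * (d + 1) ^ 2 ≤ 2 ^ (2 * l + 2) * (2 * d ^ 2) := Nat.mul_le_mul_left _ h
      _ = 2 * (2 ^ (2 * l + 2) * d ^ 2) := by ring
      _ ≤ 2 * (18 * l ^ 2 * 2 ^ d) := Nat.mul_le_mul_left _ ih
      _ = 18 * l ^ 2 * 2 ^ (d + 1) := by ring

theorem pow_bound_two {l d : ℕ} (hl : 12 ≤ l) (hd : 3 * l + 1 ≤ d) :
    2 ^ (6 * l + 6) * d ^ 6 ≤ 19683 * l ^ 6 * 2 ^ (2 * d) := by
  induction d, hd using Nat.le_induction with
  | base =>
    have h1 : (12 * (3 * l + 1)) ^ 6 ≤ (37 * l) ^ 6 := Nat.pow_le_pow_left (by omega) 6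
    rw [mul_pow, mul_pow] at h1
    have h2 : 16 * (3 * l + 1) ^ 6 ≤ 19683 * l ^ 6 := by norm_num at h1; omega
    calc 2 ^ (6 * l + 6) * (3 * l + 1) ^ 6 = 2 ^ (6 * l + 2) * (16 * (3 * l + 1) ^ 6) := by ring
      _ ≤ 2 ^ (6 * l + 2) * (19683 * l ^ 6) := Nat.mul_le_mul_left _ h2
      _ = 19683 * l ^ 6 * 2 ^ (2 * (3 * l + 1)) := by ring
  | succ d hd ih =>
    have h : (d + 1) ^ 6 ≤ 4 * d ^ 6 := by
      have h1 : (5 * (d + 1)) ^ 6 ≤ (6 * d) ^ 6 := Nat.pow_le_pow_left (by omega) 6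
      rw [mul_pow, mul_pow] at h1
      norm_num at h1
      omega
    calc 2 ^ (6 * l + 6) * (d + 1) ^ 6 ≤ 2 ^ (6 * l + 6) * (4 * d ^ 6) := Nat.mul_le_mul_left _ h
      _ = 4 * (2 ^ (6 * l + 6) * d ^ 6) := by ring
      _ ≤ 4 * (19683 * l ^ 6 * 2 ^ (2 * d)) := Nat.mul_le_mul_left _ ih
      _ = 19683 * l ^ 6 * 2 ^ (2 * (d + 1)) := by ring

theorem le_of_sq {l p s : ℕ} (hl : l ≤ 11) (hl1 : 1 ≤ l) (hp : p < 2 ^ (l + 1))
    (h : 4 * p ≤ (s + 1) ^ 2) : p ≤ 3 * l * s := by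
  by_contra! hc
  have h1 : 3 * l * (s + 1) ≤ p + 3 * l := by rw [Nat.mul_succ]; omega
  have h2 : 36 * l ^ 2 * p ≤ (p + 3 * l) ^ 2 := by
    calc 36 * l ^ 2 * p = (3 * l) ^ 2 * (4 * p) := by ring
      _ ≤ (3 * l) ^ 2 * (s + 1) ^ 2 := Nat.mul_le_mul_left _ h
      _ = (3 * l * (s + 1)) ^ 2 := by ring
      _ ≤ _ := Nat.pow_le_pow_left h1 2
  interval_cases l <;> norm_num at hp h2 hc <;> nlinarith

theorem four_mul_le_sq (a b : ℕ) : 4 * (a * b) ≤ (a + b) ^ 2 := by
  rcases le_total a b with h | h <;> obtain ⟨c, rfl⟩ := Nat.exists_eq_add_of_le h <;> nlinarith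

theorem conjClasses_map_mk {G H : Type*} [Group G] [Group H] (f : G →* H) (g : G) :
    ConjClasses.map f (ConjClasses.mk g) = ConjClasses.mk (f g) := rfl

/-- The classes of `⟨x⟩` and those outside the centraliser of `x`. -/
theorem classes_sum_le {X : Type} [Group X] [Finite X] {p : ℕ} (x : X) (hx : orderOf x = p)
    [hxn : (zpowers x).Normal] [hCn : (centralizer ({x} : Set X)).Normal] :
    4 * p ≤ (Nat.card (ConjClasses X) + 1) ^ 2 := by
  classical
  set C := centralizer ({x} : Set X) with hC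
  let T := {c : ConjClasses X // ConjClasses.map (QuotientGroup.mk' C) c = ConjClasses.mk 1}
  have hxC : x ∈ C := mem_centralizer_iff.2 fun y hy => by rw [Set.mem_singleton_iff.1 hy]
  have hle : zpowers x ≤ C := zpowers_le.2 hxC
  have hcomm : ∀ a ∈ zpowers x, ∀ c ∈ C, Commute a c := fun a ha c hc => by
    obtain ⟨j, rfl⟩ := mem_zpowers_iff.1 ha
    exact (show Commute x c from mem_centralizer_iff.1 hc x rfl).zpow_left j
  have h1 : p ≤ Nat.card T * C.index := by
    rw [← hx, ← Nat.card_zpowers]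
    refine card_le_card_mul_of_fibre (fun a : zpowers x => (⟨ConjClasses.mk (a : X), by
      rw [conjClasses_map_mk, QuotientGroup.mk'_apply, (QuotientGroup.eq_one_iff _).2 (hle a.2)]⟩ : T))
      C.index fun a => ?_
    have hex : ∀ b : {b : zpowers x // (⟨ConjClasses.mk (b : X), by
        rw [conjClasses_map_mk, QuotientGroup.mk'_apply, (QuotientGroup.eq_one_iff _).2 (hle b.2)]⟩ : T) =
        ⟨ConjClasses.mk (a : X), by
        rw [conjClasses_map_mk, QuotientGroup.mk'_apply, (QuotientGroup.eq_one_iff _).2 (hle a.2)]⟩},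
        ∃ g : X, g * (a : X) * g⁻¹ = (b.1 : X) := fun b =>
      isConj_iff.1 (ConjClasses.mk_eq_mk_iff_isConj.1 (congrArg Subtype.val b.2).symm)
    choose g hg using hex
    refine Nat.card_le_card_of_injective (fun b => (g b : X ⧸ C))
      fun b b' e => Subtype.ext (Subtype.ext ?_)
    rw [← hg b, ← hg b']
    have hc : (g b)⁻¹ * g b' ∈ C := QuotientGroup.eq.1 e
    calc g b * (a : X) * (g b)⁻¹ = g b * ((a : X) * ((g b)⁻¹ * g b')) * (g b')⁻¹ := by group
      _ = g b * (((g b)⁻¹ * g b') * (a : X)) * (g b')⁻¹ := by rw [(hcomm a a.2 _ hc).eq]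
      _ = g b' * (a : X) * (g b')⁻¹ := by group
  -- the quotient is commutative
  have hquot : ∀ a b : X ⧸ C, a * b = b * a := by
    intro a b
    obtain ⟨g, rfl⟩ := QuotientGroup.mk_surjective a
    obtain ⟨h, rfl⟩ := QuotientGroup.mk_surjective b
    let φ : X →* MulAut (zpowers x) := MulAut.conjNormal
    have hφ : ∀ f f' : MulAut (zpowers x), f * f' = f' * f := by
      intro f f'
      obtain ⟨m, hm⟩ := MonoidHom.map_cyclic f.toMonoidHom
      obtain ⟨m', hm'⟩ := MonoidHom.map_cyclic f'.toMonoidHom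
      refine MulEquiv.ext fun y => ?_
      show f (f' y) = f' (f y)
      rw [show f' y = y ^ m' from hm' y, show f y = y ^ m from hm y, map_zpow, map_zpow,
        show f y = y ^ m from hm y, show f' y = y ^ m' from hm' y, ← zpow_mul, ← zpow_mul, mul_comm]
    rw [← QuotientGroup.mk_mul, ← QuotientGroup.mk_mul, QuotientGroup.eq]
    refine mem_centralizer_iff.2 fun y hy => ?_
    rw [Set.mem_singleton_iff.1 hy]
    have he : φ (g * h) = φ (h * g) := by rw [map_mul, map_mul, hφ]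
    have he' : g * h * x * (g * h)⁻¹ = h * g * x * (h * g)⁻¹ := by
      have e := congrArg Subtype.val (DFunLike.congr_fun he (⟨x, mem_zpowers x⟩ : zpowers x))
      simpa only [φ, MulAut.conjNormal_apply] using e
    calc x * ((g * h)⁻¹ * (h * g)) = (g * h)⁻¹ * (g * h * x * (g * h)⁻¹) * (h * g) := by group
      _ = (g * h)⁻¹ * (h * g * x * (h * g)⁻¹) * (h * g) := by rw [he']
      _ = (g * h)⁻¹ * (h * g) * x := by group
  let h' : {q : X ⧸ C // q ≠ 1} →
      {c : ConjClasses X // ¬ ConjClasses.map (QuotientGroup.mk' C) c = ConjClasses.mk 1} := fun q =>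
    ⟨ConjClasses.mk q.1.out, by
      rw [conjClasses_map_mk, QuotientGroup.mk'_apply, QuotientGroup.out_eq',
        ConjClasses.mk_eq_mk_iff_isConj, isConj_iff]
      rintro ⟨c, hc⟩
      exact q.2 (by rwa [hquot c q.1, mul_inv_cancel_right] at hc)⟩
  have h2 : Nat.card {q : X ⧸ C // q ≠ 1} ≤
      Nat.card {c : ConjClasses X // ¬ ConjClasses.map (QuotientGroup.mk' C) c = ConjClasses.mk 1} := by
    refine Nat.card_le_card_of_injective h' fun q q' e => Subtype.ext ?_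
    have e' := congrArg (ConjClasses.map (QuotientGroup.mk' C)) (congrArg Subtype.val e)
    simp only [h', conjClasses_map_mk, QuotientGroup.mk'_apply, QuotientGroup.out_eq',
      ConjClasses.mk_eq_mk_iff_isConj, isConj_iff] at e'
    obtain ⟨c, hc⟩ := e'
    rwa [hquot c q.1, mul_inv_cancel_right] at hc
  have h3 : C.index = Nat.card {q : X ⧸ C // q ≠ 1} + 1 := by
    rw [Subgroup.index_eq_card, ← Finite.card_option]
    exact (Nat.card_congr (Equiv.optionSubtypeNe (1 : X ⧸ C))).symm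
  have h4 : Nat.card (ConjClasses X) = Nat.card T +
      Nat.card {c : ConjClasses X // ¬ ConjClasses.map (QuotientGroup.mk' C) c = ConjClasses.mk 1} := by
    rw [← Nat.card_sum]
    exact (Nat.card_congr (Equiv.sumCompl _)).symm
  calc 4 * p ≤ 4 * (Nat.card T * C.index) := Nat.mul_le_mul_left 4 h1
    _ ≤ (Nat.card T + C.index) ^ 2 := four_mul_le_sq _ _
    _ ≤ _ := Nat.pow_le_pow_left (by omega) 2

variable {X : Type} [Group X] [Finite X] {k : Type} [Field k] [Finite k] {V : Type} [AddCommGroup V]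
  [Module k V] [FiniteDimensional k V]

theorem classes_add_orbits (ρ : X →* Module.End k V) (hsol : Group.IsSolvable X)
    (hinj : Function.Injective ρ) (hirr : Irred ρ) {p : ℕ} (hp : p.Prime) (x : X) (hx : orderOf x = p)
    [hxn : (zpowers x).Normal] [hCn : (centralizer ({x} : Set X)).Normal] :
    p ≤ 3 * Nat.log 2 p * (Nat.card (ConjClasses X) + orbNum ρ) := by
  haveI : Finite V := Module.finite_of_finite k
  set C := centralizer ({x} : Set X) with hC
  set d := C.index with hd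
  set K := Nat.card (ConjClasses X) with hK
  set r := orbNum ρ with hr
  set l := Nat.log 2 p with hl
  have hl1 : 1 ≤ l := Nat.log_pos (by norm_num) hp.two_le
  have hpl : p < 2 ^ (l + 1) := Nat.lt_pow_succ_log_self (by norm_num) p
  have hcomm : ∀ a ∈ zpowers x, ∀ c ∈ C, Commute a c := fun a ha c hc => by
    obtain ⟨j, rfl⟩ := mem_zpowers_iff.1 ha
    exact (show Commute x c from mem_centralizer_iff.1 hc x rfl).zpow_left j
  have hpd : p ≤ K * d := by
    rw [← hx, ← Nat.card_zpowers]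
    exact card_le_classes_mul_index _ C hcomm
  by_cases hd3 : d ≤ 3 * l
  · calc p ≤ K * d := hpd
      _ ≤ K * (3 * l) := Nat.mul_le_mul_left _ hd3
      _ = 3 * l * K := mul_comm _ _
      _ ≤ _ := Nat.mul_le_mul_left _ (Nat.le_add_right _ _)
  by_cases hl11 : l ≤ 11
  · exact (le_of_sq hl11 hl1 hpl (classes_sum_le x hx)).trans
      (Nat.mul_le_mul_left _ (Nat.le_add_right _ _))
  have hp4 : 4096 ≤ p := by
    calc 4096 = 2 ^ 12 := by norm_num
      _ ≤ 2 ^ l := Nat.pow_le_pow_right (by norm_num) (by omega)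
      _ ≤ p := Nat.pow_log_le_self 2 hp.ne_zero
  by_contra! hc
  have hS : (3 * l * (K + r)) ^ 2 < (2 ^ (l + 1)) ^ 2 :=
    Nat.pow_lt_pow_left (hc.trans hpl) (by norm_num)
  have horb : Nat.card V - 1 ≤ r * Nat.card X := card_le_orbNum_mul ρ
  have hX : Nat.card X = d * Nat.card C := by rw [hd, mul_comm, C.card_mul_index]
  have hV : Nat.card V = Nat.card k ^ Module.finrank k V := Module.natCard_eq_pow_finrank
  have hk2 : 2 ≤ Nat.card k := Finite.one_lt_card
  have hVge : ∀ j, j ≤ Module.finrank k V → 2 ^ j ≤ Nat.card V := fun j hj => by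
    rw [hV]
    exact (Nat.pow_le_pow_left hk2 j).trans (Nat.pow_le_pow_right (by omega) hj)
  have hd1 : 3 * l + 1 ≤ d := by omega
  rcases exists_split ρ hsol hinj hirr hp hp4 x hx with ⟨hab, hdim⟩ | ⟨hdim, A, hAc, hAi⟩
  · have hCk : Nat.card C ≤ K * d := card_abelian_le C hab
    have h1 : 4 * (Nat.card V - 1) ≤ (K + r) ^ 2 * d ^ 2 := by
      calc 4 * (Nat.card V - 1) ≤ 4 * (r * (d * Nat.card C)) := by rw [← hX]; omega
        _ ≤ 4 * (r * (d * (K * d))) := by gcongr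
        _ = 4 * (r * K) * d ^ 2 := by ring
        _ ≤ (r + K) ^ 2 * d ^ 2 := Nat.mul_le_mul_right _ (four_mul_le_sq r K)
        _ = _ := by rw [add_comm]
    have h2 : 2 ^ d ≤ 2 * (Nat.card V - 1) := by
      have := hVge d hdim
      have : 2 ^ 1 ≤ 2 ^ d := Nat.pow_le_pow_right (by norm_num) (by omega)
      omega
    have h3 : 18 * l ^ 2 * 2 ^ d ≤ (3 * l * (K + r)) ^ 2 * d ^ 2 := by
      calc 18 * l ^ 2 * 2 ^ d ≤ 18 * l ^ 2 * (2 * (Nat.card V - 1)) := Nat.mul_le_mul_left _ h2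
        _ = 9 * l ^ 2 * (4 * (Nat.card V - 1)) := by ring
        _ ≤ 9 * l ^ 2 * ((K + r) ^ 2 * d ^ 2) := Nat.mul_le_mul_left _ h1
        _ = _ := by ring
    have h4 := Nat.mul_lt_mul_of_pos_right hS (show 0 < d ^ 2 from pow_pos (by omega) 2)
    have h5 : (2 ^ (l + 1)) ^ 2 * d ^ 2 ≤ 18 * l ^ 2 * 2 ^ d := by
      rw [← pow_mul, show (l + 1) * 2 = 2 * l + 2 by ring]
      exact pow_bound_one hl1 hd1
    omega
  · set i := A.index with hi
    have hA : Nat.card A ≤ K * (d * i) := by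
      have h := card_abelian_le (A.map C.subtype) (by
        rintro _ ⟨a, ha, rfl⟩ _ ⟨b, hb, rfl⟩
        exact (hAc a ha b hb).map C.subtype)
      rwa [Subgroup.index_map_subtype, ← hd, mul_comm i d,
        Nat.card_congr (A.equivMapOfInjective C.subtype C.subtype_injective).toEquiv.symm] at h
    have hC' : Nat.card C = i * Nat.card A := by rw [hi, mul_comm, A.card_mul_index]
    have h1 : 4 * (Nat.card V - 1) ≤ (K + r) ^ 2 * (d * i) ^ 2 := by
      calc 4 * (Nat.card V - 1) ≤ 4 * (r * (d * (i * Nat.card A))) := by rw [← hC', ← hX]; omega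
        _ ≤ 4 * (r * (d * (i * (K * (d * i))))) := by gcongr
        _ = 4 * (r * K) * (d * i) ^ 2 := by ring
        _ ≤ (r + K) ^ 2 * (d * i) ^ 2 := Nat.mul_le_mul_right _ (four_mul_le_sq r K)
        _ = _ := by rw [add_comm]
    have hV2 := hVge (2 * d) hdim
    have h2 : 3 * Nat.card V ≤ 4 * (Nat.card V - 1) := by
      have : 2 ^ 2 ≤ 2 ^ (2 * d) := Nat.pow_le_pow_right (by norm_num) (by omega)
      omega
    have h6 := pow_bound_two (l := l) (d := d) (by omega) hd1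
    have h7 : 19683 * l ^ 6 * 2 ^ (2 * d) ≤ 19683 * l ^ 6 * Nat.card V := Nat.mul_le_mul_left _ hV2
    have h8 : 27 * l ^ 2 * Nat.card V < 2 ^ (2 * l + 2) * (d * i) ^ 2 := by
      calc 27 * l ^ 2 * Nat.card V = 9 * l ^ 2 * (3 * Nat.card V) := by ring
        _ ≤ 9 * l ^ 2 * ((K + r) ^ 2 * (d * i) ^ 2) := Nat.mul_le_mul_left _ (h2.trans h1)
        _ = (3 * l * (K + r)) ^ 2 * (d * i) ^ 2 := by ring
        _ < (2 ^ (l + 1)) ^ 2 * (d * i) ^ 2 := Nat.mul_lt_mul_of_pos_right hS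
            (pow_pos (Nat.mul_pos (by omega) (Nat.pos_of_ne_zero index_ne_zero_of_finite)) 2)
        _ = _ := by ring
    have h9 : 19683 * l ^ 6 * Nat.card V * Nat.card V ^ 2 < 2 ^ (6 * l + 6) * d ^ 6 * Nat.card V ^ 2 := by
      calc 19683 * l ^ 6 * Nat.card V * Nat.card V ^ 2 = (27 * l ^ 2 * Nat.card V) ^ 3 := by ring
        _ < (2 ^ (2 * l + 2) * (d * i) ^ 2) ^ 3 := Nat.pow_lt_pow_left h8 (by norm_num)
        _ = 2 ^ (6 * l + 6) * d ^ 6 * (i ^ 3) ^ 2 := by ring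
        _ ≤ _ := Nat.mul_le_mul_left _ (Nat.pow_le_pow_left hAi 2)
    have h10 := Nat.lt_of_mul_lt_mul_right h9
    omega

end CfsgLib.ClassLog81
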