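import Cfsg.Agent.Lib.ClassLog81.Linear
import Cfsg.Agent.Lib.Class49.Reduction
import Cfsg.Agent.Lib.Solvable.Fitting
import Cfsg.Agent.Lib.Solvable.MinNormal
import Mathlib

/-!
# Class numbers of solvable groups and a prime dividing the index of the Fitting subgroup

`p ≤ 3 ⌊log₂ p⌋ k(G)` when `p` divides `[G : F(G)]`.
-/

set_option autoImplicit false
set_option linter.style.haveILetI false
set_option maxHeartbeats 800000

namespace CfsgLib.ClassLog81

open Subgroup CfsgLib.ClassBound CfsgLib.Class49 CfsgLib.MinNormal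

theorem bound_of_sq {p k : ℕ} (hp : 2 ≤ p) (h : 49 * p ≤ 60 * k) : p ≤ 3 * Nat.log 2 p * k := by
  have hl : 1 ≤ Nat.log 2 p := Nat.log_pos (by norm_num) hp
  have h1 : 3 * k ≤ 3 * Nat.log 2 p * k := Nat.mul_le_mul_right _ (by omega)
  omega

/-- A representation over `ZMod r` from an action by additive maps. -/
noncomputable def zmodRep {r : ℕ} {Y W : Type} [Group Y] [AddCommGroup W] [Module (ZMod r) W]
    (act : Y → (W →+ W)) (h1 : ∀ w, act 1 w = w) (hmul : ∀ x y w, act (x * y) w = act x (act y w)) :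
    Y →* Module.End (ZMod r) W where
  toFun x := AddMonoidHom.toZModLinearMap r (act x)
  map_one' := LinearMap.ext fun w => h1 w
  map_mul' x y := LinearMap.ext fun w => hmul x y w

theorem index_bound {p : ℕ} (hp : p.Prime) : ∀ (n : ℕ) (G : Type) [Group G] [Finite G]
    [Group.IsSolvable G], Nat.card G = n → p ∣ (Cfsg.fittingSubgroup G).index →
      p ≤ 3 * Nat.log 2 p * Nat.card (ConjClasses G) := by
  intro n
  induction n using Nat.strong_induction_on with
  | _ n ih =>
  intro G _ _ _ hn hidx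
  classical
  haveI := Fact.mk hp
  haveI : Nontrivial G := by
    by_contra h
    rw [not_nontrivial_iff_subsingleton] at h
    have h1 := hidx.trans (index_dvd_card _)
    rw [Nat.card_of_subsingleton (1 : G)] at h1
    exact hp.one_lt.ne' (Nat.dvd_one.1 h1)
  have hpG : p ∣ Nat.card G := hidx.trans (index_dvd_card _)
  by_cases hsq : p ^ 2 ∣ Nat.card G
  · exact bound_of_sq hp.two_le (classes_bound_solvable inferInstance hp hsq)
  obtain ⟨N, hN⟩ := exists_isMinNormal (G := G)
  haveI := hN.1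
  by_cases hq : p ∣ (Cfsg.fittingSubgroup (G ⧸ N)).index
  · have hlt : Nat.card (G ⧸ N) < n := by
      rw [← hn, ← Subgroup.index_eq_card, ← N.card_mul_index]
      have h1 : 1 < Nat.card N := Finite.one_lt_card_iff_nontrivial.2
        ((Subgroup.nontrivial_iff_ne_bot N).2 hN.2.1)
      have h2 : 0 < N.index := Nat.pos_of_ne_zero index_ne_zero_of_finite
      exact lt_mul_left h2 h1
    exact (ih _ hlt (G ⧸ N) rfl hq).trans (Nat.mul_le_mul_left _
      (card_conjClasses_le_of_surjective _ (QuotientGroup.mk'_surjective N)))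
  -- a prime order subgroup outside the Fitting subgroup
  have hF : ¬ p ∣ Nat.card (Cfsg.fittingSubgroup G) := fun h => hsq (by
    rw [← (Cfsg.fittingSubgroup G).card_mul_index, sq]
    exact Nat.mul_dvd_mul h hidx)
  obtain ⟨r, hr, hel, hNr, j, hj0, hNc⟩ := hN.elementaryAbelian_of_solvable
  have hNF : N ≤ Cfsg.fittingSubgroup G := by
    haveI := Fact.mk hr
    exact Fitting.le_fitting hN.1 hNr.isNilpotent
  have hpN : ¬ p ∣ Nat.card N := fun h => hF (h.trans (card_dvd_of_le hNF))
  obtain ⟨x₀, hx₀⟩ := exists_prime_orderOf_dvd_card' p hpG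
  have hx₀N : x₀ ∉ N := fun h => hpN (hx₀ ▸ Subgroup.orderOf_dvd_natCard _ h)
  have hx₀F : x₀ ∉ Cfsg.fittingSubgroup G := fun h => hF (hx₀ ▸ Subgroup.orderOf_dvd_natCard _ h)
  set π := QuotientGroup.mk' N with hπ
  have hxq : orderOf (π x₀) = p := orderOf_eq_prime (by
    rw [← map_pow, ← hx₀, pow_orderOf_eq_one, map_one]) fun h =>
      hx₀N ((QuotientGroup.eq_one_iff x₀).1 h)
  have hGN : Nat.card G = Nat.card N * Nat.card (G ⧸ N) := by
    rw [← Subgroup.index_eq_card, N.card_mul_index]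
  have hpQ : p ∣ Nat.card (Cfsg.fittingSubgroup (G ⧸ N)) := by
    have h1 : p ∣ Nat.card (G ⧸ N) := hxq ▸ orderOf_dvd_natCard _
    rw [← (Cfsg.fittingSubgroup (G ⧸ N)).card_mul_index] at h1
    exact (hp.dvd_mul.1 h1).resolve_right hq
  -- the Sylow subgroup of the quotient
  set Q := Cfsg.pCore p (G ⧸ N) with hQ
  haveI hQn : Q.Normal := Fitting.pCore_normal p
  have hQp : Nat.card Q = p := by
    obtain ⟨P⟩ := (inferInstance : Nonempty (Sylow p (Cfsg.fittingSubgroup (G ⧸ N))))
    have h2 := Fitting.sylow_fitting_eq_pCore P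
    have hpd : p ∣ Nat.card Q := by
      rw [hQ, ← h2, ← Nat.card_congr (Subgroup.equivMapOfInjective
        (P : Subgroup (Cfsg.fittingSubgroup (G ⧸ N))) (Cfsg.fittingSubgroup (G ⧸ N)).subtype
        (Subgroup.subtype_injective _)).toEquiv]
      exact P.dvd_card_of_dvd_card hpQ
    obtain ⟨a, ha⟩ := IsPGroup.iff_card.1 (Fitting.pCore_isPGroup (G := G ⧸ N) p)
    rw [← hQ] at ha
    rcases a with _ | _ | a
    · rw [ha, pow_zero] at hpd
      exact absurd (Nat.dvd_one.1 hpd) hp.one_lt.ne'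
    · rw [ha, pow_one]
    · refine absurd ?_ hsq
      rw [hGN]
      refine Dvd.dvd.mul_left ?_ _
      refine dvd_trans ?_ (card_subgroup_dvd_card Q)
      rw [ha]
      exact pow_dvd_pow p (by omega)
  have hxQ : π x₀ ∈ Q := by
    by_contra hcon
    have hpg : IsPGroup p (zpowers (π x₀)) :=
      IsPGroup.of_card (n := 1) (by rw [Nat.card_zpowers, hxq, pow_one])
    have hsup := (Fitting.pCore_isPGroup (G := G ⧸ N) p).to_sup_of_normal_left hpg
    rw [← hQ] at hsup
    obtain ⟨a, ha⟩ := IsPGroup.iff_card.1 hsup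
    have hlt : Nat.card Q < Nat.card ↥(Q ⊔ zpowers (π x₀)) := by
      refine lt_of_le_of_ne (card_le_of_le le_sup_left) fun e => hcon ?_
      have := eq_of_le_of_card_ge le_sup_left e.ge
      rw [this]
      exact le_sup_right (a := Q) (mem_zpowers _)
    refine hsq ?_
    rw [hGN]
    refine Dvd.dvd.mul_left ?_ _
    refine dvd_trans ?_ (card_subgroup_dvd_card (Q ⊔ zpowers (π x₀)))
    rw [ha] at hlt ⊢
    rw [hQp] at hlt
    refine pow_dvd_pow p ?_
    by_contra hc
    have : p ^ a ≤ p ^ 1 := Nat.pow_le_pow_right hp.pos (by omega)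
    rw [pow_one] at this
    omega
  have hQz : Q = zpowers (π x₀) :=
    (eq_of_le_of_card_ge (zpowers_le.2 hxQ) (by rw [hQp, Nat.card_zpowers, hxq])).symm
  have hconjx : ∀ g : G, ∃ i : ℤ, (g * x₀ * g⁻¹)⁻¹ * x₀ ^ i ∈ N := fun g => by
    have h1 : π g * π x₀ * (π g)⁻¹ ∈ zpowers (π x₀) := hQz ▸ hQn.conj_mem _ hxQ _
    obtain ⟨i, hi⟩ := mem_zpowers_iff.1 h1
    refine ⟨i, QuotientGroup.eq.1 ?_⟩
    show π (g * x₀ * g⁻¹) = π (x₀ ^ i)
    rw [map_zpow, hi, map_mul, map_mul, map_inv]
  -- the module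
  letI : CommGroup N :=
    { (inferInstance : Group N) with mul_comm := fun a b => hel.1.is_comm.comm a b }
  haveI := Fact.mk hr
  letI : Module (ZMod r) (Additive N) := AddCommGroup.zmodModule (n := r) fun w =>
    Additive.toMul.injective (Subtype.ext (hel.2 _ (Additive.toMul w).2))
  let act : G → (Additive N →+ Additive N) := fun g =>
    { toFun := fun w => Additive.ofMul ((MulAut.conjNormal g : MulAut N) (Additive.toMul w))
      map_zero' := by simp
      map_add' := fun a b => by simp }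
  let ρ₀ : G →* Module.End (ZMod r) (Additive N) := zmodRep act
    (fun w => congrArg Additive.ofMul
      (DFunLike.congr_fun (map_one (MulAut.conjNormal : G →* MulAut N)) (Additive.toMul w)))
    (fun g g' w => congrArg Additive.ofMul
      (DFunLike.congr_fun (map_mul (MulAut.conjNormal : G →* MulAut N) g g') (Additive.toMul w)))
  have hρ₀ : ∀ (g : G) (v : N), ((Additive.toMul (ρ₀ g (Additive.ofMul v)) : N) : G) = g * v * g⁻¹ :=
    fun g v => MulAut.conjNormal_apply g v
  have hNker : N ≤ ρ₀.ker := fun a ha => MonoidHom.mem_ker.2 (LinearMap.ext fun w => by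
    obtain ⟨v, rfl⟩ := Additive.ofMul.surjective w
    refine Additive.toMul.injective (Subtype.ext ?_)
    rw [hρ₀, Module.End.one_apply]
    have hc : a * (v : G) = (v : G) * a :=
      congrArg Subtype.val (hel.1.is_comm.comm (⟨a, ha⟩ : N) v)
    show a * (v : G) * a⁻¹ = (v : G)
    rw [hc, mul_inv_cancel_right])
  let X := G ⧸ ρ₀.ker
  let ρ := quotRep ρ₀
  have hρ : ∀ g : G, ρ (g : X) = ρ₀ g := fun g => quotRep_mk ρ₀ g
  have hinj : Function.Injective ρ := quotRep_injective ρ₀
  haveI : Finite (Additive N) := inferInstanceAs (Finite N)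
  haveI : FiniteDimensional (ZMod r) (Additive N) := Module.Finite.of_finite
  have hirr₀ : Irred ρ₀ := by
    haveI : Nontrivial N := (Subgroup.nontrivial_iff_ne_bot N).2 hN.2.1
    refine ⟨inferInstanceAs (Nontrivial N), fun W hW => ?_⟩
    let S : Subgroup G := (AddSubgroup.toSubgroup' W.toAddSubgroup).map N.subtype
    have hSn : S.Normal := ⟨fun a ha g => by
      obtain ⟨v, hv, rfl⟩ := ha
      exact ⟨Additive.toMul (ρ₀ g (Additive.ofMul v)), hW g _ hv, hρ₀ g v⟩⟩
    rcases hN.2.2 S hSn (map_subtype_le _) with h | h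
    · left
      refine (Submodule.eq_bot_iff W).2 fun w hw => ?_
      have h' : ((Additive.toMul w : N) : G) ∈ (⊥ : Subgroup G) := h ▸ ⟨Additive.toMul w, hw, rfl⟩
      exact Additive.toMul.injective (Subtype.ext (mem_bot.1 h'))
    · right
      refine eq_top_iff.2 fun w _ => ?_
      have h' : ((Additive.toMul w : N) : G) ∈ S := h.symm ▸ (Additive.toMul w).2
      obtain ⟨v, hv, e⟩ := h'
      have e' : v = Additive.toMul w := Subtype.ext e
      rw [e'] at hv
      exact hv
  have hirr : Irred ρ := hirr₀.quotRep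
  -- the element of order `p`
  have hxne : (x₀ : X) ≠ 1 := fun h => by
    have h1 : ρ₀ x₀ = 1 := MonoidHom.mem_ker.1 ((QuotientGroup.eq_one_iff x₀).1 h)
    have hc : ∀ v ∈ N, Commute x₀ v := fun v hv => by
      have h2 := hρ₀ x₀ ⟨v, hv⟩
      rw [h1] at h2
      exact (mul_inv_eq_iff_eq_mul.1 h2.symm)
    let M : Subgroup G := Q.comap π
    have hMle : M ≤ N ⊔ zpowers x₀ := fun g hg => by
      have h2 : π g ∈ zpowers (π x₀) := hQz ▸ hg
      obtain ⟨i, hi⟩ := mem_zpowers_iff.1 h2
      have h3 : g * (x₀ ^ i)⁻¹ ∈ N := by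
        rw [← QuotientGroup.eq_one_iff]
        show π (g * (x₀ ^ i)⁻¹) = 1
        rw [map_mul, map_inv, map_zpow, hi, mul_inv_cancel]
      have h4 := mul_mem_sup h3 (zpow_mem (mem_zpowers x₀) i)
      rwa [inv_mul_cancel_right] at h4
    have hMc : ∀ a ∈ M, ∀ b ∈ M, Commute a b := by
      intro a ha b hb
      obtain ⟨u, hu, s, hs, rfl⟩ := mem_sup_of_normal_left.1 (hMle ha)
      obtain ⟨u', hu', s', hs', rfl⟩ := mem_sup_of_normal_left.1 (hMle hb)
      obtain ⟨i, rfl⟩ := mem_zpowers_iff.1 hs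
      obtain ⟨i', rfl⟩ := mem_zpowers_iff.1 hs'
      have huu : Commute u u' := congrArg Subtype.val (hel.1.is_comm.comm (⟨u, hu⟩ : N) ⟨u', hu'⟩)
      exact ((huu.mul_right ((hc u hu).symm.zpow_right i')).mul_left
        (((hc u' hu').zpow_left i).mul_right (Commute.zpow_zpow_self x₀ i i')))
    refine hx₀F (Fitting.le_fitting (hQn.comap π) ?_ (show x₀ ∈ M from hxQ))
    letI : CommGroup M :=
      { (inferInstance : Group M) with mul_comm := fun a b => Subtype.ext (hMc a a.2 b b.2).eq }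
    exact CommGroup.isNilpotent
  have hxo : orderOf (x₀ : X) = p := orderOf_eq_prime (by
    rw [← QuotientGroup.mk_pow, ← hx₀, pow_orderOf_eq_one, QuotientGroup.mk_one]) hxne
  haveI hxn : (zpowers (x₀ : X)).Normal := ⟨fun a ha b => by
    obtain ⟨i, rfl⟩ := mem_zpowers_iff.1 ha
    obtain ⟨g, rfl⟩ := QuotientGroup.mk_surjective b
    rw [← conj_zpow]
    refine zpow_mem (mem_zpowers_iff.2 ?_) i
    obtain ⟨i', hi'⟩ := hconjx g
    exact ⟨i', (QuotientGroup.eq.2 (hNker hi') : ((g * x₀ * g⁻¹ : G) : X) = ((x₀ ^ i' : G) : X)).symm⟩⟩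
  haveI : (centralizer ({(x₀ : X)} : Set X)).Normal := ⟨fun c hc b => mem_centralizer_iff.2 fun y hy => by
    rw [Set.mem_singleton_iff.1 hy]
    have h1 := hxn.conj_mem _ (mem_zpowers (x₀ : X)) b⁻¹
    rw [inv_inv] at h1
    obtain ⟨i, hi⟩ := mem_zpowers_iff.1 h1
    have h2 : Commute c (b⁻¹ * (x₀ : X) * b) := by
      rw [← hi]
      exact (show Commute (x₀ : X) c from mem_centralizer_iff.1 hc _ rfl).symm.zpow_right i
    calc (x₀ : X) * (b * c * b⁻¹) = b * ((b⁻¹ * (x₀ : X) * b) * c) * b⁻¹ := by group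
      _ = b * (c * (b⁻¹ * (x₀ : X) * b)) * b⁻¹ := by rw [h2.eq]
      _ = b * c * b⁻¹ * (x₀ : X) := by group⟩
  have hmain := classes_add_orbits ρ inferInstance hinj hirr hp (x₀ : X) hxo
  -- classes and orbits of the group
  refine hmain.trans (Nat.mul_le_mul_left _ ?_)
  haveI : Finite (Quotient (orbSetoid ρ)) := Quotient.finite _
  let f : Quotient (orbSetoid ρ) → ConjClasses G := fun q =>
    ConjClasses.mk ((Additive.toMul (q.out : Additive N) : N) : G)
  have hf := classes_quot_add_le N f (fun q q' e => ?_) (fun q => ?_) fun q e => ?_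
  · refine le_trans (Nat.add_le_add_right ?_ _) hf
    exact card_conjClasses_le_of_surjective
      (QuotientGroup.map N ρ₀.ker (MonoidHom.id G) (fun a ha => hNker ha))
      (fun y => by obtain ⟨g, rfl⟩ := QuotientGroup.mk_surjective y; exact ⟨(g : G ⧸ N), rfl⟩)
  · obtain ⟨g, hg⟩ := isConj_iff.1 (ConjClasses.mk_eq_mk_iff_isConj.1 e)
    rw [← q.out_eq, ← q'.out_eq]
    refine Quotient.sound ⟨(g : X), ?_⟩
    rw [hρ]
    exact Additive.toMul.injective (Subtype.ext ((hρ₀ g _).trans hg))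
  · show ConjClasses.mk (π _) = ConjClasses.mk 1
    exact congrArg ConjClasses.mk
      ((QuotientGroup.eq_one_iff _).2 (Additive.toMul (q.out : Additive N)).2)
  · exact q.out.2 (Additive.toMul.injective (Subtype.ext
      (isConj_one_left.1 (ConjClasses.mk_eq_mk_iff_isConj.1 e))))

end CfsgLib.ClassLog81
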