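import Cfsg.Agent.Lib.ClassLog81.AbelIndex
import Mathlib

/-!
# An irreducible group with a normal subgroup of prime order

Let `x` generate a normal subgroup of large prime order `p` of an irreducible solvable linear group, `C` its
centraliser and `d = [X : C]`. Then either `C` is abelian and the dimension is at least `d`, or `C` has an
abelian subgroup of index `i` with `i ^ 3 ≤ |V|` and the dimension is at least `2 d`.
-/

set_option autoImplicit false
set_option linter.style.haveILetI false
set_option maxHeartbeats 1600000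

namespace CfsgLib.ClassLog81

open Subgroup CfsgLib.ClassBound Polynomial

/-- Restricting a representation of a normal subgroup to an invariant subspace. -/
noncomputable def resRep {X : Type} [Group X] {k : Type} [Field k] {V : Type} [AddCommGroup V] [Module k V]
    (ρ : X →* Module.End k V) (C : Subgroup X) (U : Submodule k V)
    (hU : ∀ c ∈ C, ∀ v ∈ U, ρ c v ∈ U) : C →* Module.End k U where
  toFun c := (ρ (c : X)).restrict fun v hv => hU c c.2 v hv
  map_one' := LinearMap.ext fun v => Subtype.ext (by
    show ρ (1 : X) (v : V) = v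
    rw [map_one, Module.End.one_apply])
  map_mul' g h := LinearMap.ext fun v => Subtype.ext (by
    show ρ ((g : X) * h) (v : V) = ρ (g : X) (ρ (h : X) v)
    rw [map_mul, Module.End.mul_apply])

theorem resRep_apply {X : Type} [Group X] {k : Type} [Field k] {V : Type} [AddCommGroup V] [Module k V]
    (ρ : X →* Module.End k V) (C : Subgroup X) (U : Submodule k V)
    (hU : ∀ c ∈ C, ∀ v ∈ U, ρ c v ∈ U) (c : C) (u : U) :
    ((resRep ρ C U hU c u : U) : V) = ρ (c : X) u := rfl

/-- A polynomial in a map, restricted to an invariant subspace. -/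
theorem coe_aeval_restrict {k : Type} [Field k] {V : Type} [AddCommGroup V] [Module k V]
    {U : Submodule k V} (a : Module.End k U) (b : Module.End k V)
    (h : ∀ u : U, ((a u : U) : V) = b u) (P : k[X]) (u : U) :
    ((aeval a P u : U) : V) = aeval b P (u : V) := by
  revert u
  induction P using Polynomial.induction_on' with
  | add P Q hP hQ =>
    intro u
    simp only [map_add, LinearMap.add_apply, Submodule.coe_add, hP u, hQ u]
  | monomial n c =>
    intro u
    simp only [aeval_monomial, Module.algebraMap_end_eq_smul_id, smul_mul_assoc,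
      LinearMap.smul_apply, Submodule.coe_smul, Module.End.mul_apply, LinearMap.id_apply]
    congr 1
    induction n generalizing u with
    | zero => simp
    | succ n ih =>
      rw [pow_succ, pow_succ, Module.End.mul_apply, Module.End.mul_apply, ih, h]

/-- Kernels of coprime factors are independent. -/
theorem finrank_ker_prod {k : Type} [Field k] {V : Type} [AddCommGroup V] [Module k V]
    [FiniteDimensional k V] (f : Module.End k V) (s : Finset k[X])
    (hs : ∀ P ∈ s, ∀ Q ∈ s, P ≠ Q → IsCoprime P Q) :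
    ∑ P ∈ s, Module.finrank k (LinearMap.ker (aeval f P)) ≤
      Module.finrank k (LinearMap.ker (aeval f (∏ P ∈ s, P))) := by
  classical
  induction s using Finset.induction_on with
  | empty => simp
  | insert P s hP ih =>
    rw [Finset.sum_insert hP, Finset.prod_insert hP]
    have hco : IsCoprime P (∏ Q ∈ s, Q) := IsCoprime.prod_right fun Q hQ =>
      hs P (Finset.mem_insert_self P s) Q (Finset.mem_insert_of_mem hQ) (fun e => hP (e ▸ hQ))
    refine (Nat.add_le_add_left (ih fun a ha b hb => hs a (Finset.mem_insert_of_mem ha) b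
      (Finset.mem_insert_of_mem hb)) _).trans ?_
    rw [← sup_ker_aeval_eq_ker_aeval_mul_of_coprime f hco,
      ← Submodule.finrank_sup_add_finrank_inf_eq,
      (disjoint_ker_aeval_of_isCoprime f hco).eq_bot, finrank_bot, add_zero]

variable {X : Type} [Group X] [Finite X] {k : Type} [Field k] [Finite k] {V : Type} [AddCommGroup V]
  [Module k V] [FiniteDimensional k V]

omit [Finite k] in
/-- Submodules meeting trivially multiply the orders. -/
theorem card_sup_of_inf_eq_bot {S T : Submodule k V} (h : S ⊓ T = ⊥) :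
    Nat.card ↥(S ⊔ T) = Nat.card S * Nat.card T := by
  rw [Module.natCard_eq_pow_finrank (K := k), Module.natCard_eq_pow_finrank (K := k) (V := S),
    Module.natCard_eq_pow_finrank (K := k) (V := T), ← pow_add,
    ← Submodule.finrank_sup_add_finrank_inf_eq S T, h, finrank_bot, add_zero]

theorem exists_split (ρ : X →* Module.End k V) (hsol : Group.IsSolvable X)
    (hinj : Function.Injective ρ) (hirr : Irred ρ) {p : ℕ} (hp : p.Prime) (hp4 : 4096 ≤ p) (x : X)
    (hx : orderOf x = p) [hxn : (zpowers x).Normal] :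
    ((∀ a ∈ centralizer ({x} : Set X), ∀ b ∈ centralizer ({x} : Set X), Commute a b) ∧
        (centralizer ({x} : Set X)).index ≤ Module.finrank k V) ∨
      (2 * (centralizer ({x} : Set X)).index ≤ Module.finrank k V ∧
        ∃ A : Subgroup (centralizer ({x} : Set X)),
          (∀ a ∈ A, ∀ b ∈ A, Commute a b) ∧ A.index ^ 3 ≤ Nat.card V) := by
  classical
  haveI := hirr.1
  haveI := hsol
  haveI : Finite V := Module.finite_of_finite k
  set C := centralizer ({x} : Set X) with hC
  have hxC : x ∈ C := mem_centralizer_iff.2 fun y hy => by rw [Set.mem_singleton_iff.1 hy]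
  have hx1 : x ≠ 1 := fun e => hp.one_lt.ne' (by rw [← hx, e, orderOf_one])
  -- conjugates of `x` are powers of `x`
  have hpow : ∀ g : X, ∃ j : ℕ, g⁻¹ * x * g = x ^ j := fun g => by
    have h1 := hxn.conj_mem x (mem_zpowers x) g⁻¹
    rw [inv_inv, mem_zpowers_iff_mem_range_orderOf] at h1
    · obtain ⟨j, -, hj⟩ := Finset.mem_image.1 h1
      exact ⟨j, hj.symm⟩
  choose jx hjx using hpow
  have hCn : C.Normal := ⟨fun c hc g => mem_centralizer_iff.2 fun y hy => by
    rw [Set.mem_singleton_iff.1 hy]
    have h1 : Commute c (g⁻¹ * x * g) := by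
      rw [hjx g]
      exact (show Commute x c from mem_centralizer_iff.1 hc x rfl).symm.pow_right _
    calc x * (g * c * g⁻¹) = g * ((g⁻¹ * x * g) * c) * g⁻¹ := by group
      _ = g * (c * (g⁻¹ * x * g)) * g⁻¹ := by rw [h1.eq]
      _ = g * c * g⁻¹ * x := by group⟩
  haveI := hCn
  -- `x` fixes no nonzero vector
  have hfix : ∀ v : V, ρ x v = v → v = 0 := by
    intro v hv
    let W : Submodule k V := LinearMap.ker (ρ x - 1)
    have hW : ∀ g : X, ∀ w ∈ W, ρ g w ∈ W := fun g w hw => by
      have hw' : ρ x w = w := sub_eq_zero.1 hw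
      have hpw : ∀ j : ℕ, ρ (x ^ j) w = w := fun j => by
        induction j with
        | zero => rw [pow_zero, map_one, Module.End.one_apply]
        | succ j ih => rw [pow_succ, map_mul, Module.End.mul_apply, hw', ih]
      show ρ x (ρ g w) - ρ g w = 0
      rw [← Module.End.mul_apply, ← map_mul,
        show x * g = g * x ^ jx g by rw [← hjx g]; group, map_mul, Module.End.mul_apply, hpw, sub_self]
    rcases hirr.2 W hW with h | h
    · exact (Submodule.mem_bot k).1 (h ▸ (show v ∈ W from sub_eq_zero.2 hv))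
    · refine absurd (hinj (?_ : ρ x = ρ 1)) hx1
      rw [map_one]
      exact LinearMap.ext fun w => sub_eq_zero.1 (show w ∈ W from h ▸ Submodule.mem_top)
  -- a minimal invariant subspace of the centralizer
  obtain ⟨U, ⟨hU0, hU⟩, hUmin⟩ := (Set.toFinite
    {U : Submodule k V | U ≠ ⊥ ∧ ∀ c ∈ C, ∀ v ∈ U, ρ c v ∈ U}).exists_minimal
      ⟨⊤, top_ne_bot, fun _ _ _ _ => Submodule.mem_top⟩
  have hUmin' : ∀ W : Submodule k V, (∀ c ∈ C, ∀ v ∈ W, ρ c v ∈ W) → W ≤ U → W = ⊥ ∨ W = U :=
    fun W hW hle => or_iff_not_imp_left.2 fun h => le_antisymm hle (hUmin ⟨h, hW⟩ hle)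
  haveI : Nontrivial U := Submodule.nontrivial_iff_ne_bot.2 hU0
  set σ := resRep ρ C U hU with hσ
  have hσirr : Irred σ := by
    refine ⟨inferInstance, fun W hW => ?_⟩
    rcases hUmin' (W.map U.subtype) (fun c hc v hv => by
      obtain ⟨w, hw, rfl⟩ := hv
      exact ⟨σ ⟨c, hc⟩ w, hW ⟨c, hc⟩ w hw, resRep_apply ρ C U hU _ _⟩) (Submodule.map_subtype_le _ _)
      with h | h
    · left
      refine eq_bot_iff.2 fun w hw => ?_
      have h' : (w : V) ∈ (⊥ : Submodule k V) := h ▸ ⟨w, hw, rfl⟩
      exact (Submodule.mem_bot k).2 (Subtype.ext ((Submodule.mem_bot k).1 h'))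
    · right
      refine eq_top_iff.2 fun w _ => ?_
      have : (w : V) ∈ W.map U.subtype := h.symm ▸ w.2
      obtain ⟨w', hw', e⟩ := this
      exact (Subtype.ext e : w' = w) ▸ hw'
  -- the field generated by `x` on `U`
  set z : Module.End k U := σ ⟨x, hxC⟩ with hz
  let R : Subalgebra k (Module.End k U) := Algebra.adjoin k {z}
  haveI : Finite (Module.End k U) := Finite.of_injective _ DFunLike.coe_injective
  haveI : Finite R := inferInstance
  have hRC : ∀ y ∈ R, ∀ c : C, σ c * y = y * σ c := fun y hy c => by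
    have hle : R ≤ Subalgebra.centralizer k {σ c} := Algebra.adjoin_le (by
      intro w hw
      rw [Set.mem_singleton_iff.1 hw, SetLike.mem_coe, Subalgebra.mem_centralizer_iff]
      intro w' hw'
      rw [Set.mem_singleton_iff.1 hw', hz, ← map_mul, ← map_mul]
      exact congrArg σ (Subtype.ext (mem_centralizer_iff.1 c.2 x rfl).symm))
    exact (Subalgebra.mem_centralizer_iff k).1 (hle hy) _ rfl
  have hinjR : ∀ y ∈ R, y ≠ 0 → Function.Injective y := fun y hy hy0 => by
    rw [← LinearMap.ker_eq_bot]
    refine (hσirr.2 (LinearMap.ker y) fun c v hv => ?_).resolve_right fun h =>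
      hy0 (LinearMap.ker_eq_top.1 h)
    rw [LinearMap.mem_ker, ← Module.End.mul_apply, ← hRC y hy c, Module.End.mul_apply,
      LinearMap.mem_ker.1 hv, map_zero]
  have hField : IsField R := by
    refine ⟨⟨0, 1, fun e => zero_ne_one (α := Module.End k U) (congrArg Subtype.val e)⟩,
      fun a b => Subtype.ext ?_, fun {a} ha => ?_⟩
    · have hle : R ≤ Subalgebra.centralizer k (R : Set (Module.End k U)) := Algebra.adjoin_le (by
        intro w hw
        rw [Set.mem_singleton_iff.1 hw, SetLike.mem_coe, Subalgebra.mem_centralizer_iff]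
        intro y hy
        exact (hRC y hy ⟨x, hxC⟩).symm)
      exact ((Subalgebra.mem_centralizer_iff k).1 (hle b.2) _ a.2)
    · have hi := hinjR a a.2 fun e => ha (Subtype.ext e)
      have hmul : Function.Injective fun b : R => a * b := fun b b' e =>
        Subtype.ext (LinearMap.ext fun v => hi (LinearMap.congr_fun (congrArg Subtype.val e) v))
      exact (Finite.injective_iff_surjective.1 hmul) 1
  letI : Field R := hField.toField
  have hsmul : ∀ (y : R) (v : U), y • v = (y : Module.End k U) v := fun _ _ => rfl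
  haveI : Module.Finite R U := Module.Finite.of_finite
  haveI : Module.Finite k R := Module.Finite.of_finite
  let zR : R := ⟨z, Algebra.self_mem_adjoin_singleton k z⟩
  have hzne : zR ≠ 1 := fun e => by
    have hz1 : z = 1 := congrArg Subtype.val e
    obtain ⟨u, hu⟩ := exists_ne (0 : U)
    refine hu (Subtype.ext (hfix u ?_))
    have := congrArg (Subtype.val) (LinearMap.congr_fun hz1 u)
    rwa [resRep_apply, Module.End.one_apply] at this
  have hzp : zR ^ p = 1 := Subtype.ext (by
    show z ^ p = 1
    rw [hz, ← map_pow, show (⟨x, hxC⟩ : C) ^ p = 1 from Subtype.ext (by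
      show x ^ p = 1
      rw [← hx, pow_orderOf_eq_one]), map_one])
  haveI := Fact.mk hp
  have hord : orderOf zR = p := orderOf_eq_prime hzp hzne
  have hcardR : p ≤ Nat.card R := hord ▸ orderOf_le_card
  -- the representation over `R`
  let τ : C →* Module.End R U :=
    { toFun := fun c =>
        { toFun := σ c
          map_add' := map_add _
          map_smul' := fun y v => by
            show σ c ((y : Module.End k U) v) = (y : Module.End k U) (σ c v)
            rw [← Module.End.mul_apply, hRC _ y.2, Module.End.mul_apply] }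
      map_one' := LinearMap.ext fun v => by
        show σ 1 v = v
        rw [map_one, Module.End.one_apply]
      map_mul' := fun c c' => LinearMap.ext fun v => by
        show σ (c * c') v = σ c (σ c' v)
        rw [map_mul, Module.End.mul_apply] }
  have hτirr : Irred τ := ⟨inferInstance, fun W hW => by
    rcases hσirr.2 (W.restrictScalars k) hW with h | h
    · exact Or.inl ((Submodule.restrictScalars_eq_bot_iff k R U).1 h)
    · exact Or.inr ((Submodule.restrictScalars_eq_top_iff k R U).1 h)⟩
  have hker : ∀ c : C, τ c = 1 → ∀ v ∈ U, ρ c v = v := fun c hc v hv => by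
    have := congrArg Subtype.val (LinearMap.congr_fun hc ⟨v, hv⟩)
    exact this
  set fR := Module.finrank k R with hfR
  set rR := Module.finrank R U with hrR
  have hfU : Module.finrank k U = fR * rR := (Module.finrank_mul_finrank k R U).symm
  have hrR1 : 1 ≤ rR := Module.finrank_pos
  -- the dimension
  have hdim : rR * C.index ≤ Module.finrank k V := by
    let μ : X ⧸ C → k[X] := fun q => minpoly k (zR ^ jx q.out)
    have hmon : ∀ q, (μ q).Monic := fun q => minpoly.monic (Algebra.IsIntegral.isIntegral _)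
    have hirrμ : ∀ q, Irreducible (μ q) := fun q => minpoly.irreducible (Algebra.IsIntegral.isIntegral _)
    have hkerμ : ∀ q, Module.finrank k U ≤ Module.finrank k (LinearMap.ker (aeval (ρ x) (μ q))) := by
      intro q
      set g : X := q.out
      have hann : ∀ u ∈ U, aeval (ρ (x ^ jx g)) (μ q) u = 0 := fun u hu => by
        have h0 : aeval (z ^ jx g) (μ q) = 0 := by
          have := congrArg R.val (minpoly.aeval k (zR ^ jx g))
          rwa [← aeval_algHom_apply, map_zero] at this
        rw [← coe_aeval_restrict (z ^ jx g) (ρ (x ^ jx g)) (fun u => ?_) (μ q) ⟨u, hu⟩, h0]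
        · rfl
        · rw [hz, ← map_pow, resRep_apply]
          rfl
      let T : U →ₗ[k] LinearMap.ker (aeval (ρ x) (μ q)) :=
        ((ρ g).comp U.subtype).codRestrict _ fun u => by
          rw [LinearMap.mem_ker, LinearMap.comp_apply, Submodule.subtype_apply]
          have h1 : conjAlg ρ g⁻¹ (aeval (ρ x) (μ q)) = aeval (ρ (x ^ jx g)) (μ q) := by
            rw [← aeval_algHom_apply]
            congr 2
            rw [conjAlg_apply, inv_inv, ← map_mul, ← map_mul, hjx g]
          have h2 := hann u u.2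
          rw [← h1, conjAlg_apply, inv_inv, Module.End.mul_apply, Module.End.mul_apply] at h2
          have h3 := congrArg (ρ g) h2
          rwa [rep_apply_inv, map_zero] at h3
      refine LinearMap.finrank_le_finrank_of_injective (f := T) fun a b e => Subtype.ext ?_
      have e' : ρ g (a : V) = ρ g (b : V) := congrArg Subtype.val e
      rw [← rep_inv_apply ρ g (a : V), e', rep_inv_apply]
    haveI : Fintype (X ⧸ C) := Fintype.ofFinite _
    let s : Finset k[X] := Finset.univ.image μ
    have hroots : C.index ≤ ∑ P ∈ s, P.natDegree := by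
      have hinjz : Function.Injective fun q : X ⧸ C => zR ^ jx q.out := fun q q' e => by
        have h1 : jx q.out % p = jx q'.out % p :=
          pow_injOn_Iio_orderOf (x := zR) (by rw [hord]; exact Nat.mod_lt _ hp.pos)
            (by rw [hord]; exact Nat.mod_lt _ hp.pos) (by
              show zR ^ (jx q.out % p) = zR ^ (jx q'.out % p)
              rw [← hord, pow_mod_orderOf, pow_mod_orderOf]; exact e)
        have h2 : x ^ jx q.out = x ^ jx q'.out := by
          rw [pow_inj_mod, hx]; exact h1
        rw [← hjx, ← hjx] at h2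
        rw [← q'.out_eq', ← q.out_eq', eq_comm, QuotientGroup.eq]
        have h4 : q.out * q'.out⁻¹ * x * (q.out * q'.out⁻¹)⁻¹ = x := by
          calc q.out * q'.out⁻¹ * x * (q.out * q'.out⁻¹)⁻¹
              = q.out * (q'.out⁻¹ * x * q'.out) * q.out⁻¹ := by group
            _ = x := by rw [← h2]; group
        have h5 : q.out * q'.out⁻¹ ∈ C := mem_centralizer_iff.2 fun y hy => by
          rw [Set.mem_singleton_iff.1 hy]
          calc x * (q.out * q'.out⁻¹)
              = (q.out * q'.out⁻¹ * x * (q.out * q'.out⁻¹)⁻¹) * (q.out * q'.out⁻¹) := by rw [h4]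
            _ = q.out * q'.out⁻¹ * x := by group
        exact hCn.mem_comm h5
      calc C.index = (Finset.univ.image fun q : X ⧸ C => zR ^ jx q.out).card := by
            rw [Finset.card_image_of_injective _ hinjz, Finset.card_univ, ← Nat.card_eq_fintype_card]
            rfl
        _ ≤ (s.biUnion fun P => (P.aroots R).toFinset).card := Finset.card_le_card fun y hy => by
            obtain ⟨q, -, rfl⟩ := Finset.mem_image.1 hy
            refine Finset.mem_biUnion.2 ⟨μ q, Finset.mem_image_of_mem μ (Finset.mem_univ q), ?_⟩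
            rw [Multiset.mem_toFinset, mem_aroots]
            exact ⟨(hmon q).ne_zero, minpoly.aeval k _⟩
        _ ≤ ∑ P ∈ s, (P.aroots R).toFinset.card := Finset.card_biUnion_le
        _ ≤ ∑ P ∈ s, P.natDegree := Finset.sum_le_sum fun P _ =>
            (Multiset.toFinset_card_le _).trans ((card_roots' _).trans natDegree_map_le)
    have hco : ∀ P ∈ s, ∀ Q ∈ s, P ≠ Q → IsCoprime P Q := fun P hP Q hQ hne => by
      obtain ⟨q, -, rfl⟩ := Finset.mem_image.1 hP
      obtain ⟨q', -, rfl⟩ := Finset.mem_image.1 hQ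
      exact (hirrμ q).coprime_iff_not_dvd.2 fun hd => hne
        (eq_of_monic_of_associated (hmon q) (hmon q') ((hirrμ q).associated_of_dvd (hirrμ q') hd))
    calc rR * C.index ≤ rR * ∑ P ∈ s, P.natDegree := Nat.mul_le_mul_left _ hroots
      _ = ∑ P ∈ s, rR * P.natDegree := Finset.mul_sum _ _ _
      _ ≤ ∑ P ∈ s, Module.finrank k (LinearMap.ker (aeval (ρ x) P)) := Finset.sum_le_sum fun P hP => by
          obtain ⟨q, -, rfl⟩ := Finset.mem_image.1 hP
          refine le_trans ?_ (hkerμ q)
          rw [hfU, mul_comm rR]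
          exact Nat.mul_le_mul_right _ (minpoly.natDegree_le _)
      _ ≤ _ := finrank_ker_prod _ s hco
      _ ≤ Module.finrank k V := Submodule.finrank_le _
  -- spanning by translates
  have hconj : ∀ (g : X) (c : X), c ∈ C → g⁻¹ * c * g ∈ C := fun g c hc => by
    have := hCn.conj_mem c hc g⁻¹
    rwa [inv_inv] at this
  have htr : ∀ (g : X) (c : X) (v : V), ρ c (ρ g v) = ρ g (ρ (g⁻¹ * c * g) v) := fun g c v => by
    rw [← Module.End.mul_apply, ← map_mul, ← Module.End.mul_apply, ← map_mul,
      show g * (g⁻¹ * c * g) = c * g by group]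
  have hspan : ⨆ g : X, U.map (ρ g) = ⊤ := by
    refine (hirr.2 _ fun g v hv => ?_).resolve_left fun h => hU0 ?_
    · have hle : (⨆ h : X, U.map (ρ h)) ≤ (⨆ h : X, U.map (ρ h)).comap (ρ g) := iSup_le fun h w hw => by
        obtain ⟨u, hu, rfl⟩ := hw
        exact Submodule.mem_iSup_of_mem (g * h) ⟨u, hu, by rw [map_mul, Module.End.mul_apply]⟩
      exact hle hv
    · refine eq_bot_iff.2 fun u hu => ?_
      rw [← h]
      exact Submodule.mem_iSup_of_mem 1 ⟨u, hu, by rw [map_one, Module.End.one_apply]⟩
  by_cases hr1 : rR = 1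
  · left
    refine ⟨fun a ha b hb => ?_, by simpa [hr1] using hdim⟩
    have hcomm : ∀ c c' : C, τ c * τ c' = τ c' * τ c := fun c c' => by
      obtain ⟨v, hv, hgen⟩ := finrank_eq_one_iff'.1 hr1
      refine LinearMap.ext fun w => ?_
      obtain ⟨y, rfl⟩ := hgen w
      obtain ⟨y1, h1⟩ := hgen (τ c v)
      obtain ⟨y2, h2⟩ := hgen (τ c' v)
      simp only [Module.End.mul_apply, map_smul, ← h1, ← h2, smul_smul, mul_comm]
    have hker' : ∀ c c' : C, ∀ v : V, ρ ((c : X) * c' * (c : X)⁻¹ * (c' : X)⁻¹) v = v := by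
      intro c c' v
      have hle : (⨆ g : X, U.map (ρ g)) ≤
          LinearMap.ker (ρ ((c : X) * c' * (c : X)⁻¹ * (c' : X)⁻¹) - 1) := iSup_le fun g w hw => by
        obtain ⟨u, hu, rfl⟩ := hw
        rw [LinearMap.mem_ker, LinearMap.sub_apply, Module.End.one_apply, sub_eq_zero, htr]
        congr 1
        let d : C := ⟨_, hconj g c c.2⟩
        let d' : C := ⟨_, hconj g c' c'.2⟩
        have he : g⁻¹ * ((c : X) * c' * (c : X)⁻¹ * (c' : X)⁻¹) * g = ((d * d' * d⁻¹ * d'⁻¹ : C) : X) := by
          simp only [d, d', Subgroup.coe_mul, Subgroup.coe_inv]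
          group
        rw [he]
        refine hker _ ?_ u hu
        rw [map_mul, map_mul, map_mul, hcomm, mul_assoc (τ d'), ← map_mul, mul_inv_cancel, map_one,
          mul_one, ← map_mul, mul_inv_cancel, map_one]
      exact sub_eq_zero.1 (LinearMap.mem_ker.1 (hle (hspan ▸ Submodule.mem_top (x := v))))
    have h1 : a * b * a⁻¹ * b⁻¹ = 1 := hinj (LinearMap.ext fun v => by
      rw [map_one, Module.End.one_apply]; exact hker' ⟨a, ha⟩ ⟨b, hb⟩ v)
    calc a * b = a * b * a⁻¹ * b⁻¹ * (b * a) := by group
      _ = b * a := by rw [h1, one_mul]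
  right
  have hr2 : 2 ≤ rR := by omega
  refine ⟨(Nat.mul_le_mul_right _ hr2).trans hdim, ?_⟩
  -- the abelian subgroup on `U`
  obtain ⟨A₀, hA₀c, hA₀i⟩ := linAb rR (C ⧸ τ.ker) R U (quotRep τ) inferInstance
    (quotRep_injective τ) hτirr.quotRep (hp4.trans hcardR) rfl
  have hUcard : Nat.card R ^ rR = Nat.card U := (Module.natCard_eq_pow_finrank).symm
  let A₁ : Subgroup C := A₀.comap (QuotientGroup.mk' τ.ker)
  have hA₁i : A₁.index ^ 3 ≤ Nat.card U := by
    rw [← hUcard, show A₁.index = A₀.index from
      Subgroup.index_comap_of_surjective _ (QuotientGroup.mk'_surjective _)]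
    exact le_trans (Nat.pow_le_pow_left (by omega) 3) hA₀i
  have hA₁c : ∀ a ∈ A₁, ∀ b ∈ A₁, ∀ v ∈ U, ρ ((a * b * a⁻¹ * b⁻¹ : C) : X) v = v := by
    intro a ha b hb v hv
    refine hker _ (MonoidHom.mem_ker.1 ((QuotientGroup.eq_one_iff _).1 ?_)) v hv
    show QuotientGroup.mk' τ.ker (a * b * a⁻¹ * b⁻¹) = 1
    rw [map_mul, map_mul, map_mul, map_inv, map_inv, (hA₀c _ ha _ hb).eq]
    group
  let P : Submodule k V → Prop := fun S => (∀ c ∈ C, ∀ v ∈ S, ρ c v ∈ S) ∧ ∃ A : Subgroup C,
    (∀ a ∈ A, ∀ b ∈ A, ∀ v ∈ S, ρ ((a * b * a⁻¹ * b⁻¹ : C) : X) v = v) ∧ A.index ^ 3 ≤ Nat.card S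
  obtain ⟨S, ⟨hS, A, hAc, hAi⟩, hSmax⟩ := (Set.toFinite {S | P S}).exists_maximal ⟨⊥, fun c _ v hv => by
      rw [(Submodule.mem_bot k).1 hv, map_zero]; exact zero_mem _,
    ⊤, fun a _ b _ v hv => by rw [(Submodule.mem_bot k).1 hv, map_zero], by
      rw [Subgroup.index_top, one_pow]; exact Nat.card_pos⟩
  have hStop : S = ⊤ := by
    by_contra hne
    obtain ⟨g, hg⟩ : ∃ g : X, ¬ U.map (ρ g) ≤ S := by
      by_contra! hcon
      exact hne (top_le_iff.1 (hspan ▸ iSup_le hcon))
    set T := U.map (ρ g) with hT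
    have hTinv : ∀ c ∈ C, ∀ v ∈ T, ρ c v ∈ T := fun c hc v hv => by
      obtain ⟨u, hu, rfl⟩ := hv
      exact ⟨_, hU _ (hconj g c hc) u hu, (htr g c u).symm⟩
    have hinf : S ⊓ T = ⊥ := by
      have hW := hUmin' (U ⊓ (S.comap (ρ g))) (fun c hc v hv => ?_) inf_le_left
      · rcases hW with h | h
        · refine eq_bot_iff.2 fun v hv => ?_
          obtain ⟨u, hu, rfl⟩ := hv.2
          have : u ∈ (⊥ : Submodule k V) := h ▸ ⟨hu, hv.1⟩
          rw [(Submodule.mem_bot k).1 this, map_zero]
          exact zero_mem _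
        · refine absurd ?_ hg
          rintro _ ⟨u, hu, rfl⟩
          have : u ∈ U ⊓ S.comap (ρ g) := h.symm ▸ hu
          exact this.2
      · refine ⟨hU c hc v hv.1, ?_⟩
        show ρ g (ρ c v) ∈ S
        have h1 : g * c * g⁻¹ ∈ C := hCn.conj_mem c hc g
        have h2 := hS _ h1 (ρ g v) hv.2
        rwa [htr, show g⁻¹ * (g * c * g⁻¹) * g = c by group] at h2
    let cj : C →* C := (MulAut.conjNormal g⁻¹ : C ≃* C).toMonoidHom
    have hcj : ∀ c : C, ((cj c : C) : X) = g⁻¹ * c * g := fun c => by
      show ((MulAut.conjNormal g⁻¹ c : C) : X) = _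
      rw [MulAut.conjNormal_apply, inv_inv]
    have hPS : P (S ⊔ T) := by
      refine ⟨fun c hc v hv => ?_, A ⊓ A₁.comap cj, fun a ha b hb v hv => ?_, ?_⟩
      · obtain ⟨s, hs, t, ht, rfl⟩ := Submodule.mem_sup.1 hv
        rw [map_add]
        exact Submodule.add_mem_sup (hS c hc s hs) (hTinv c hc t ht)
      · obtain ⟨s, hs, t, ht, rfl⟩ := Submodule.mem_sup.1 hv
        obtain ⟨u, hu, rfl⟩ := ht
        rw [map_add, hAc a ha.1 b hb.1 s hs, htr, ← hcj, map_mul, map_mul, map_mul, map_inv, map_inv,
          hA₁c _ ha.2 _ hb.2 u hu]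
      · rw [card_sup_of_inf_eq_bot hinf]
        have hTcard : Nat.card T = Nat.card U := (Nat.card_congr
          (Submodule.equivMapOfInjective (ρ g) (fun a b e => by
            rw [← rep_inv_apply ρ g a, e, rep_inv_apply]) U).toEquiv).symm
        rw [hTcard]
        calc (A ⊓ A₁.comap cj).index ^ 3 ≤ (A.index * (A₁.comap cj).index) ^ 3 :=
              Nat.pow_le_pow_left Subgroup.index_inf_le 3
          _ = A.index ^ 3 * A₁.index ^ 3 := by
              rw [mul_pow, Subgroup.index_comap_of_surjective (f := cj) _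
                (MulAut.conjNormal g⁻¹ : C ≃* C).surjective]
          _ ≤ _ := Nat.mul_le_mul hAi hA₁i
    exact hg (le_trans le_sup_right (hSmax hPS le_sup_left))
  subst hStop
  refine ⟨A, fun a ha b hb => ?_, hAi.trans (Finite.card_subtype_le _)⟩
  have h1 : ((a * b * a⁻¹ * b⁻¹ : C) : X) = 1 := hinj (LinearMap.ext fun v => by
    rw [map_one, Module.End.one_apply]; exact hAc a ha b hb v Submodule.mem_top)
  have h2 : a * b * a⁻¹ * b⁻¹ = 1 := Subtype.ext h1
  calc a * b = a * b * a⁻¹ * b⁻¹ * (b * a) := by group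
    _ = b * a := by rw [h2, one_mul]

end CfsgLib.ClassLog81
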